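import Cfsg.Agent.H126.PwO.Nu_m3
import Cfsg.Agent.H134.Sq.Base_m3
import Cfsg.Agent.H643.PwCnt
import Cfsg.Agent.H903.Ore.Baby
import Cfsg.Agent.H323.Pw.Coset
import Cfsg.Agent.H570.Ore.Blk_m3
import Cfsg.Agent.H65.Ore.Split_m3
import Cfsg.Agent.H85.Ore.Phi_mg_m3
import Cfsg.Agent.FastGrp
import Cfsg.Agent.Prune
set_option linter.all false

section
prune_inst 0x7ffdfdf8bfa8ffffff7f7fbdf7dbcffcf1868fffa6dff943ffed6fbf9bff235f0da5fba509f490ffdf57e03690b87853f97eefffe06bdc7ffffd57b41ffbee4ff5f7b508519d8cb41eac0ffe83e0770e6f3ffcff7fffffffffffffffffffffefffbfebfeffff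

-- part: H295/War/Mul
section
set_option linter.all false
open scoped Cfsg.Agent.FastGrp

/-!
# Products of two matrices with prescribed characteristic polynomials and a prescribed eigenfunctional
(helper295, S2453)

`exists_mul_phi`: helper962's theorem A with the eigenfunctional of the second factor prescribed: any row vector
`v0` with `v0 A ∉ F v0`.
-/

set_option autoImplicit false

namespace Cfsg.Agent.H295.War

open Module Matrix Polynomial Cfsg.Agent.H962.PP

variable {F : Type*} [Field F] {k : ℕ}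

/-- **Hessenberg form** with prescribed first row -/
theorem exists_hess' (A : Matrix (Fin (k + 2)) (Fin (k + 2)) F) {v0 : Fin (k + 2) → F} (hv0 : v0 ≠ 0)
    (hvA : v0 ᵥ* A ∉ Submodule.span F {v0}) :
    ∃ (R L : Matrix (Fin (k + 2)) (Fin (k + 2)) F), IsUnit R.det ∧ R * A = L * R ∧ LH L ∧
      L 0 1 ≠ 0 ∧ R 0 = v0 := by
  obtain ⟨a, ha⟩ : ∃ a : (Fin (k + 2) → F) →ₗ[F] (Fin (k + 2) → F), a = A.vecMulLinear := ⟨_, rfl⟩
  have ha' : ∀ v, a v = v ᵥ* A := fun v => by rw [ha, Matrix.vecMulLinear_apply]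
  have hfin : finrank F (Fin (k + 2) → F) = k + 2 := by simp
  have hli := st_indep a v0 hv0 (k + 2) (by rw [hfin])
  let b : Basis (Fin (k + 2)) F (Fin (k + 2) → F) :=
    basisOfLinearIndependentOfCardEqFinrank hli (by simp)
  have hb : ∀ i, b i = (st a v0 i).2 := fun i => by
    simp [b]
  let R : Matrix (Fin (k + 2)) (Fin (k + 2)) F := Matrix.of fun i => b i
  let L : Matrix (Fin (k + 2)) (Fin (k + 2)) F := Matrix.of fun i j => b.repr (a (b i)) j
  have hRL : R * A = L * R := by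
    ext i j
    have h1 : (R * A) i = a (b i) := by
      rw [ha']; rfl
    have h2 : (L * R) i = a (b i) := by
      rw [← b.sum_repr (a (b i))]
      ext l
      rw [Matrix.mul_apply, Finset.sum_apply]
      exact Finset.sum_congr rfl fun m _ => rfl
    rw [h1, h2]
  have hR : IsUnit R.det := by
    rw [← Matrix.isUnit_iff_isUnit_det, ← Matrix.linearIndependent_rows_iff_isUnit]
    exact b.linearIndependent
  have hmemspan : ∀ (n : ℕ) (v : Fin (k + 2) → F), v ∈ (st a v0 n).1 →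
      ∀ j : Fin (k + 2), n ≤ j → b.repr v j = 0 := by
    intro n v hv j hj
    rw [st_one] at hv
    refine Submodule.span_induction (p := fun v _ => b.repr v j = 0) ?_ ?_ ?_ ?_ hv
    · rintro _ ⟨i, rfl⟩
      have hi : (i : ℕ) < k + 2 := by have := i.2; have := j.2; omega
      have h3 : (st a v0 i).2 = b ⟨i, hi⟩ := (hb ⟨i, hi⟩).symm
      simp only
      rw [h3, b.repr_self, Finsupp.single_eq_of_ne]
      intro h
      rw [h] at hj
      simp only at hj
      have := i.2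
      omega
    · simp
    · intro x y _ _ hx hy; rw [map_add, Finsupp.add_apply, hx, hy, add_zero]
    · intro c x _ hx; rw [map_smul, Finsupp.smul_apply, hx, smul_zero]
  have h0 : b 0 = v0 := by rw [hb]; rfl
  refine ⟨R, L, hR, hRL, ?_, ?_, h0⟩
  · intro i j hij
    change b.repr (a (b i)) j = 0
    apply hmemspan ((i : ℕ) + 2)
    · rw [hb]; exact st_map a v0 i
    · omega
  · change b.repr (a (b 0)) 1 ≠ 0
    have h1 : b 1 = a v0 := by
      rw [hb]
      change (st a v0 (0 + 1)).2 = a v0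
      rw [st]
      simp only
      rw [if_pos]
      · rfl
      · change a v0 ∉ ⊥ ⊔ Submodule.span F {v0}
        rw [bot_sup_eq, ha']
        exact hvA
    rw [h0, ← h1, b.repr_self]
    simp

theorem aeval_conj {n : ℕ} {R M : Matrix (Fin n) (Fin n) F} (hR : IsUnit R.det) (f : F[X]) :
    aeval (R⁻¹ * M * R) f = R⁻¹ * aeval M f * R := by
  have hRR' : R * R⁻¹ = 1 := Matrix.mul_nonsing_inv _ hR
  have hRR : R⁻¹ * R = 1 := Matrix.nonsing_inv_mul _ hR
  have hpow : ∀ i : ℕ, (R⁻¹ * M * R) ^ i = R⁻¹ * M ^ i * R := by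
    intro i
    induction i with
    | zero => rw [pow_zero, pow_zero, mul_one, hRR]
    | succ i ih =>
      rw [pow_succ, ih, pow_succ]
      have : R⁻¹ * M ^ i * R * (R⁻¹ * M * R) = R⁻¹ * M ^ i * (R * R⁻¹) * M * R := by
        simp only [mul_assoc]
      rw [this, hRR', mul_one, mul_assoc (R⁻¹)]
  rw [aeval_eq_sum_range, aeval_eq_sum_range, Finset.mul_sum, Finset.sum_mul]
  refine Finset.sum_congr rfl fun i _ => ?_
  rw [hpow, Matrix.mul_smul, Matrix.smul_mul]

/-- powers of a matrix with first row `(c, 0, …, 0)` on vectors `(0, w)` -/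
theorem mulVec_consL {n : ℕ} {y : Matrix (Fin (n + 1)) (Fin (n + 1)) F}
    (h : ∀ j : Fin n, y 0 j.succ = 0) (w : Fin n → F) :
    y *ᵥ consL w = consL ((y.submatrix Fin.succ Fin.succ) *ᵥ w) := by
  ext i
  refine Fin.cases ?_ (fun j => ?_) i
  · rw [mulVec_consL_zero, consL_zero]
    exact Finset.sum_eq_zero fun j _ => by rw [h j, zero_mul]
  · rw [mulVec_consL_succ, consL_succ]

theorem aeval_consL {n : ℕ} {y : Matrix (Fin (n + 1)) (Fin (n + 1)) F}
    (h : ∀ j : Fin n, y 0 j.succ = 0) (f : F[X]) (w : Fin n → F) :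
    aeval y f *ᵥ consL w = consL (aeval (y.submatrix Fin.succ Fin.succ) f *ᵥ w) := by
  have hpow : ∀ (i : ℕ) (w : Fin n → F), y ^ i *ᵥ consL w
      = consL ((y.submatrix Fin.succ Fin.succ) ^ i *ᵥ w) := by
    intro i
    induction i with
    | zero => intro w; rw [pow_zero, pow_zero, one_mulVec, one_mulVec]
    | succ i ih =>
      intro w
      rw [pow_succ', pow_succ', ← mulVec_mulVec, ih, mulVec_consL h, mulVec_mulVec]
  rw [aeval_eq_sum_range, aeval_eq_sum_range, Matrix.sum_mulVec, Matrix.sum_mulVec, map_sum]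
  refine Finset.sum_congr rfl fun i _ => ?_
  rw [Matrix.smul_mulVec, hpow, Matrix.smul_mulVec, map_smul]

/-- **Products of two matrices with prescribed characteristic polynomials and eigenfunctional.** -/
theorem exists_mul_phi (A : Matrix (Fin (k + 2)) (Fin (k + 2)) F) (hdet : A.det ≠ 0)
    {v0 : Fin (k + 2) → F} (hv0 : v0 ≠ 0) (hvA : v0 ᵥ* A ∉ Submodule.span F {v0})
    {p f : F[X]} (hp : p.Monic)
    (hpdeg : p.natDegree = k + 2) (hp0 : p.coeff 0 ≠ 0) (hf : f.Monic) (hfdeg : f.natDegree = k + 1)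
    (hf0 : f.coeff 0 ≠ 0) :
    ∃ x y : Matrix (Fin (k + 2)) (Fin (k + 2)) F, A = x * y ∧ x.charpoly = p ∧
      ∃ c : F, c ≠ 0 ∧ y.charpoly = (X - C c) * f ∧ v0 ᵥ* y = c • v0 ∧
        ∀ w, v0 ⬝ᵥ w = 0 → aeval y f *ᵥ w = 0 := by
  obtain ⟨R, L, hR, hRL, hL, hL01, hR0⟩ := exists_hess' A hv0 hvA
  have hRR : R⁻¹ * R = 1 := Matrix.nonsing_inv_mul _ hR
  have hRR' : R * R⁻¹ = 1 := Matrix.mul_nonsing_inv _ hR
  have hLdet : L.det ≠ 0 := by
    have h1 : R.det * A.det = L.det * R.det := by rw [← det_mul, ← det_mul, hRL]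
    intro h
    rw [h, zero_mul] at h1
    exact mul_ne_zero hR.ne_zero hdet h1
  obtain ⟨x, y, hxy, hxp, -, hy0, hyc, hyf, -⟩ :=
    hess hL hLdet hL01 hp hpdeg hp0 hf hfdeg hf0
  have hconj : ∀ M : Matrix (Fin (k + 2)) (Fin (k + 2)) F,
      (R⁻¹ * M * R).charpoly = M.charpoly := by
    intro M
    rw [Matrix.charpoly_mul_comm, ← mul_assoc, hRR', one_mul]
  have he : ∀ v : Fin (k + 2) → F, (Pi.single 0 1 : Fin (k + 2) → F) ᵥ* R = v0 := by
    intro _
    rw [Matrix.single_one_vecMul, ← hR0]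
    rfl
  refine ⟨R⁻¹ * x * R, R⁻¹ * y * R, ?_, by rw [hconj, hxp], y 0 0, hyc, ?_, ?_, ?_⟩
  · have h1 : R⁻¹ * x * R * (R⁻¹ * y * R) = R⁻¹ * x * (R * R⁻¹) * y * R := by
      simp only [mul_assoc]
    rw [h1, hRR', mul_one, mul_assoc (R⁻¹), hxy, mul_assoc, ← hRL, ← mul_assoc, hRR, one_mul]
  · rw [hconj, charpoly_of_row y hy0, hyf]
  · have h1 : (Pi.single 0 1 : Fin (k + 2) → F) ᵥ* y = y 0 0 • (Pi.single 0 1 : Fin (k + 2) → F) := by
      rw [Matrix.single_one_vecMul]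
      ext j
      refine Fin.cases ?_ (fun i => ?_) j
      · simp
      · show y 0 i.succ = _
        rw [hy0]
        simp [Fin.succ_ne_zero]
    rw [← he v0, Matrix.vecMul_vecMul, mul_assoc, ← mul_assoc R, hRR', one_mul, ← Matrix.vecMul_vecMul, h1,
      Matrix.smul_vecMul]
  · intro w hw
    rw [aeval_conj hR, ← Matrix.mulVec_mulVec, ← Matrix.mulVec_mulVec]
    have h2 : (R *ᵥ w) 0 = 0 := by
      rw [Matrix.mulVec, hR0]
      exact hw
    rw [← consL_tail h2, aeval_consL hy0, ← hyf, Matrix.aeval_self_charpoly, Matrix.zero_mulVec, map_zero,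
      Matrix.mulVec_zero]

end Cfsg.Agent.H295.War
end

-- part: H334/Ore/Pw
section
set_option linter.all false
open scoped Cfsg.Agent.FastGrp

/-!
# Products of two elements of order prime to `n` in the Mathieu groups (S2465): the engine
-/

set_option autoImplicit false
set_option linter.unusedSectionVars false

namespace Cfsg.Agent.H334.Ore.PwB

open Cfsg Cfsg.Agent.H334.Ore.Mat Cfsg.Agent.H729.Trans Cfsg.Agent.H78.Pw
open Cfsg.Agent.SporadicStructure.M24El Cfsg.Agent.SporadicA.GolayPerm Cfsg.Agent.SporadicA.GolayBase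

/-- packed powers -/
def ppw (c : ℕ) : ℕ → ℕ
  | 0 => idP
  | k + 1 => pcomp c (ppw c k)

theorem el_ppw {c : ℕ} (hc : ok c = true) (k : ℕ) : ok (ppw c k) = true ∧ el (ppw c k) = el c ^ k := by
  induction k with
  | zero => exact ⟨ok_idP, by rw [pow_zero]; exact el_idP⟩
  | succ k ih =>
    refine ⟨ok_pcomp hc ih.1, ?_⟩
    show el (pcomp c (ppw c k)) = _
    rw [el_pcomp hc ih.1, ih.2, pow_succ']

/-- The check of a factorisation into two elements of order prime to `n`. -/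
def chkW (F : List ℕ) (n : ℕ) (r : Rec) (w : ℕ × ℕ × ℕ × ℕ) : Bool :=
  Nat.beq (pcomp w.1 w.2.2.1) r.c && (inG F w.1 && (inG F w.2.2.1 && (Nat.beq (ppw w.1 w.2.1) idP &&
    (Nat.beq (ppw w.2.2.1 w.2.2.2) idP && (Nat.beq (Nat.gcd w.2.1 n) 1 && Nat.beq (Nat.gcd w.2.2.2 n) 1)))))

/-- The check of a list of factorisations. -/
def chkAll (F : List ℕ) (n : ℕ) : List Rec → List (ℕ × ℕ × ℕ × ℕ) → Bool
  | [], [] => true
  | r :: D, w :: W => chkW F n r w && chkAll F n D W
  | _, _ => false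

theorem exists_chkW {F : List ℕ} {n : ℕ} : ∀ {D : List Rec} {W : List (ℕ × ℕ × ℕ × ℕ)}, chkAll F n D W = true →
    ∀ r ∈ D, ∃ w, chkW F n r w = true := by
  intro D
  induction D with
  | nil => intro W _ r hr; exact absurd hr List.not_mem_nil
  | cons r D ih =>
    intro W h s hs
    cases W with
    | nil => exact Bool.noConfusion h
    | cons w W =>
      have h1 : chkW F n r w = true ∧ chkAll F n D W = true := by
        have h2 : (chkW F n r w && chkAll F n D W) = true := h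
        rwa [Bool.and_eq_true] at h2
      rcases List.mem_cons.1 hs with rfl | hs
      · exact ⟨w, h1.1⟩
      · exact ih h1.2 s hs

theorem all_of_data {G : Type*} [Group G] [Finite G] {φ : G →* M24} (hφ : Function.Injective φ) {F : List ℕ}
    (hmem : ∀ c : ℕ, ok c = true → (∀ b ∈ F, papp c b = b) → ∃ x : G, φ x = el c) (D : List Rec) (n : ℕ)
    {W : List (ℕ × ℕ × ℕ × ℕ)} (hW : chkAll F n D W = true)
    (hcov : ∀ g : G, g = 1 ∨ ∃ r ∈ D, ∃ x : G, φ x = el r.c ∧ IsConj x g) : All n G := by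
  intro g
  rcases hcov g with rfl | ⟨r, hr, x, hx, hg⟩
  · exact Pr.one n
  · refine Pr.of_isConj ?_ hg
    obtain ⟨w, hw⟩ := exists_chkW hW r hr
    unfold chkW at hw
    rw [Bool.and_eq_true, Bool.and_eq_true, Bool.and_eq_true, Bool.and_eq_true, Bool.and_eq_true, Bool.and_eq_true] at hw
    obtain ⟨h1, h2, h3, h4, h5, h6, h7⟩ := hw
    have h8 := inG_iff h2
    have h9 := inG_iff h3
    obtain ⟨a, ha⟩ := hmem _ h8.1 h8.2
    obtain ⟨b, hb⟩ := hmem _ h9.1 h9.2
    have hpow : ∀ (y : G) (c k : ℕ), ok c = true → φ y = el c → Nat.beq (ppw c k) idP = true → y ^ k = 1 := by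
      intro y c k hc hy h
      apply hφ
      rw [map_pow, hy, ← (el_ppw hc k).2, Nat.eq_of_beq_eq_true h, el_idP, map_one]
    refine ⟨a, b, ?_, ?_, ?_⟩
    · apply hφ
      rw [map_mul, ha, hb, hx, ← el_pcomp h8.1 h9.1, Nat.eq_of_beq_eq_true h1]
    · exact Nat.Coprime.of_dvd_left (orderOf_dvd_of_pow_eq_one (hpow a _ _ h8.1 ha h4)) (Nat.eq_of_beq_eq_true h6)
    · exact Nat.Coprime.of_dvd_left (orderOf_dvd_of_pow_eq_one (hpow b _ _ h9.1 hb h5)) (Nat.eq_of_beq_eq_true h7)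

end Cfsg.Agent.H334.Ore.PwB
end

-- part: H700/PwB/Baby
section
prune_inst 0x300800000000000000000000010000014010000
set_option linter.all false
open scoped Cfsg.Agent.FastGrp

-- part: H700/PwB/Large
section
/-!
# Products of two elements of order `r` in `C(z)`, `Q = O₂(C(z))` extraspecial (S2465, helper700)

* `PP r g` : `g = a * b`, `a` and `b` of order `r`;
* `pp_out` : `π g = a₀ b₀ ≠ 1` with `a₀`, `b₀` of order `r`, `r` prime with the arithmetic condition of helper903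
  (no fixed points on `Q/⟨z⟩`): `g` is a product of two elements of order `r`;
* `pp_in` : the elements of `Q` different from `z`;
* `pp_z` : `z`, if `z` has a conjugate in `Q` different from `z`;
* `pp_cent`, `pp_two`.
-/

set_option autoImplicit false

namespace Cfsg.Agent.H700.PwB

open Cfsg.Agent.Co2Type.Quad (Large)
open Cfsg.Agent.H6.ORE Cfsg.Agent.H903.Ore.Large Cfsg.Agent.H323.Pw Cfsg.Agent.H843.Ore
open Cfsg.Agent.H78.Pw (Pr All)

universe u v

/-- a product of two elements of order `r` -/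
def PP {G : Type*} [Group G] (r : ℕ) (g : G) : Prop := ∃ a b : G, g = a * b ∧ orderOf a = r ∧ orderOf b = r

section

variable {G : Type u} [Group G] {H : Type v} [Group H]

theorem PP.map {r : ℕ} {g : G} (h : PP r g) (f : G ≃* H) : PP r (f g) := by
  obtain ⟨a, b, e, ha, hb⟩ := h
  exact ⟨f a, f b, by rw [e, map_mul], by rw [MulEquiv.orderOf_eq, ha], by rw [MulEquiv.orderOf_eq, hb]⟩

theorem PP.conj {r : ℕ} {g : G} (h : PP r g) (x : G) : PP r (x * g * x⁻¹) := h.map (MulAut.conj x)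

theorem PP.of_conj {r : ℕ} {g x : G} (h : PP r (x * g * x⁻¹)) : PP r g := by
  have h1 := h.conj x⁻¹
  rwa [show x⁻¹ * (x * g * x⁻¹) * x⁻¹⁻¹ = g by group] at h1

theorem PP.of_isConj {r : ℕ} {g g' : G} (h : PP r g) (hc : IsConj g g') : PP r g' := by
  obtain ⟨x, hx⟩ := isConj_iff.1 hc
  rw [← hx]
  exact h.conj x

theorem PP.inv {r : ℕ} {g : G} (h : PP r g) : PP r g⁻¹ := by
  obtain ⟨a, b, e, ha, hb⟩ := h
  exact ⟨b⁻¹, a⁻¹, by rw [e, mul_inv_rev], by rwa [orderOf_inv], by rwa [orderOf_inv]⟩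

/-- in a subgroup -/
theorem PP.of_sub {K : Subgroup G} {r : ℕ} {g : K} (h : PP r g) : PP r (g : G) := by
  obtain ⟨a, b, e, ha, hb⟩ := h
  exact ⟨a, b, by rw [e]; rfl, by rw [Subgroup.orderOf_coe, ha], by rw [Subgroup.orderOf_coe, hb]⟩

theorem PP.pr {r n : ℕ} {g : G} (h : PP r g) (hr : r.Coprime n) : Pr n g := by
  obtain ⟨a, b, e, ha, hb⟩ := h
  exact ⟨a, b, e, by rwa [ha], by rwa [hb]⟩

end

variable {K : Type u} [Group K] {Q : Subgroup K} {z : K} {L : Type v} [Group L] {π : CZ z →* L}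

/-- a lift of order `r` -/
theorem lift_order [Finite Q] (h : Large Q z) (hs : Function.Surjective π) (hk : ∀ c, π c = 1 ↔ (c : K) ∈ Q)
    {r : ℕ} (hr : r.Prime) (hodd : Odd r) {a₀ : L} (ha : orderOf a₀ = r) : ∃ a : CZ z, π a = a₀ ∧ orderOf a = r := by
  obtain ⟨a, rfl⟩ := hs a₀
  have hker : π.ker = Q.subgroupOf (CZ z) := by
    ext c
    rw [MonoidHom.mem_ker, hk]
    rfl
  have hE := es_of_large h
  obtain ⟨y, hy, hay⟩ := exists_lift π (n := 2) hker (fun x hx => ⟨2, ES.pow_four hE hx⟩)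
    (by rw [ha]; exact (Nat.coprime_two_left.2 hodd).symm)
  have hπy : π y = 1 := by
    rw [hk]
    exact hy
  have hπ : π (a * y) = π a := by rw [map_mul, hπy, mul_one]
  refine ⟨a * y, hπ, ?_⟩
  apply Nat.dvd_antisymm
  · have h1 : (a * y) ^ r ∈ Q.subgroupOf (CZ z) := by
      rw [← hker, MonoidHom.mem_ker, map_pow, hπ, ← ha, pow_orderOf_eq_one]
    have h2 : (a * y) ^ (r * 4) = 1 := by rw [pow_mul]; exact ES.pow_four hE h1
    have h3 := orderOf_dvd_of_pow_eq_one h2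
    exact (Nat.Coprime.dvd_of_dvd_mul_right (by
      rw [show (4 : ℕ) = 2 ^ 2 by norm_num]
      exact hay.pow_right 2) h3)
  · rw [← ha, ← hπ]
    exact orderOf_map_dvd π _

/-- an element of order `r` modulo `Q` has no fixed points on `Q/⟨z⟩` -/
theorem nofix [Finite Q] (h : Large Q z) (hk : ∀ c, π c = 1 ↔ (c : K) ∈ Q)
    {r n : ℕ} (hr : r.Prime) (hodd : Odd r) (hcard : Nat.card Q = 2 ^ (n + 1)) (har : Ar r n) {a : CZ z}
    (ha : orderOf (π a) = r) : ∀ x ∈ Q.subgroupOf (CZ z), (a * x * a⁻¹ = x ∨ a * x * a⁻¹ = x * zC z) →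
      x = 1 ∨ x = zC z := by
  intro x hx hxa
  have hd1 : ((a ^ r : CZ z) : K) ∈ Q := by
    rw [← hk, map_pow, ← ha, pow_orderOf_eq_one]
  have hd2 : (a : K) ∉ Q := by
    intro hdQ
    rw [← hk] at hdQ
    rw [hdQ, orderOf_one] at ha
    exact hr.one_lt.ne ha
  have hxQ : (x : K) ∈ Q := hx
  have h3 := fpf h hr hodd hcard har hd1 hd2
    (act_fix h a (x := ⟨x, hxQ⟩) (hxa.imp (congrArg Subtype.val) (congrArg Subtype.val)))
  exact (h.pr_eq_zero.1 h3).imp (fun e => Subtype.ext e) (fun e => Subtype.ext e)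

/-- **Elements outside `Q`.** -/
theorem pp_out [Finite Q] (h : Large Q z) (hs : Function.Surjective π) (hk : ∀ c, π c = 1 ↔ (c : K) ∈ Q)
    {r n : ℕ} (hr : r.Prime) (hodd : Odd r) (hcard : Nat.card Q = 2 ^ (n + 1)) (har : Ar r n) {g : CZ z}
    (hg : π g ≠ 1) (hp : PP r (π g)) : PP r g := by
  obtain ⟨a₀, b₀, e, ha, hb⟩ := hp
  have hE := es_of_large h
  have hfin : Finite (Q.subgroupOf (CZ z)) := finQ
  obtain ⟨a, rfl, hoa⟩ := lift_order h hs hk hr hodd ha
  obtain ⟨b, rfl, hob⟩ := lift_order h hs hk hr hodd hb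
  have hx : (a * b)⁻¹ * g ∈ Q.subgroupOf (CZ z) := by
    show (((a * b)⁻¹ * g : CZ z) : K) ∈ Q
    rw [← hk, map_mul, map_inv, map_mul, e, inv_mul_cancel]
  obtain ⟨u, -, w, -, e'⟩ := ES.prod_step_fpf hE (nofix h hk hr hodd hcard har ha) (nofix h hk hr hodd hcard har hb) (by
    by_contra hno
    push Not at hno
    apply hg
    rw [e, ← map_mul, hk]
    apply Cfsg.Agent.KFacts.LargeO2.mem_of_triv h (Subgroup.mem_centralizer_singleton_iff.1 (a * b).2)
    intro y hy
    have hyC : y ∈ CZ z := Subgroup.mem_centralizer_singleton_iff.2 (h.comm_z y hy)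
    exact (hno ⟨y, hyC⟩ hy).imp (congrArg Subtype.val) (congrArg Subtype.val)) hx
  rw [mul_inv_cancel_left] at e'
  refine ⟨u * a * u⁻¹, w * b * w⁻¹, e'.symm, ?_, ?_⟩
  · rw [show u * a * u⁻¹ = MulAut.conj u a from rfl, MulEquiv.orderOf_eq]; exact hoa
  · rw [show w * b * w⁻¹ = MulAut.conj w b from rfl, MulEquiv.orderOf_eq]; exact hob

/-- the noncentral elements of an extraspecial group, and 1 -/
theorem ES.pp_mem {H : Type*} [Group H] {Q : Subgroup H} {z : H} (h : ES Q z) [Finite Q] {r : ℕ} {a : H}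
    (hord : orderOf a = r)
    (hfix : ∀ x ∈ Q, (a * x * a⁻¹ = x ∨ a * x * a⁻¹ = x * z) → x = 1 ∨ x = z)
    {q : H} (hq : q ∈ Q) (hne : q ≠ z) : PP r q := by
  by_cases hq1 : q = 1
  · rw [hq1]; exact ⟨a, a⁻¹, by rw [mul_inv_cancel], hord, by rw [orderOf_inv, hord]⟩
  have hn := h.normal
  have hzn := h.normal_zpowers
  obtain ⟨u, hu, w, hw, e⟩ := step (a := a) (b := a⁻¹) (fpz_cov h (FPz.of_left h a⁻¹ hfix)) hq
  have key : PP r (u * a * u⁻¹ * (w * a⁻¹ * w⁻¹)) := by
    refine ⟨_, _, rfl, ?_, ?_⟩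
    · rw [show u * a * u⁻¹ = MulAut.conj u a from rfl, MulEquiv.orderOf_eq]; exact hord
    · rw [show w * a⁻¹ * w⁻¹ = MulAut.conj w a⁻¹ from rfl, MulEquiv.orderOf_eq, orderOf_inv]; exact hord
  rw [mul_inv_cancel, one_mul, h.mem_zpowers] at e
  rcases e with e | e
  · rwa [inv_mul_eq_one.1 e] at key
  · have e0 : q = u * a * u⁻¹ * (w * a⁻¹ * w⁻¹) * z := by rw [← e]; group
    have : ∃ y ∈ Q, ¬ (q * y = y * q) := by
      by_contra hno
      push Not at hno
      rcases h.nd q hq hno with h1 | h1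
      · exact hq1 h1
      · exact hne h1
    obtain ⟨y, hy, hyq⟩ := this
    have e2 : q * y = y * q * z := (h.comm q hq y hy).resolve_left hyq
    refine PP.of_conj (x := y) ?_
    have e3 : y * q * y⁻¹ = q * z := by
      have e4 : y * q = q * y * z := by rw [e2, mul_assoc (y * q), h.sq, mul_one]
      rw [e4, mul_assoc q, h.central, mul_assoc, mul_assoc, mul_inv_cancel, mul_one]
    rw [e3, e0, mul_assoc, h.sq, mul_one]
    exact key

/-- **Elements of `Q`.** -/
theorem pp_in [Finite Q] (h : Large Q z) (hs : Function.Surjective π) (hk : ∀ c, π c = 1 ↔ (c : K) ∈ Q)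
    {r n : ℕ} (hr : r.Prime) (hodd : Odd r) (hcard : Nat.card Q = 2 ^ (n + 1)) (har : Ar r n)
    {y : L} (hyr : orderOf y = r) {q : K} (hq : q ∈ Q) (hqz : q ≠ z) : PP r q := by
  have hE := es_of_large h
  have hfin : Finite (Q.subgroupOf (CZ z)) := finQ
  obtain ⟨a, rfl, hoa⟩ := lift_order h hs hk hr hodd hyr
  have hqC : q ∈ CZ z := Subgroup.mem_centralizer_singleton_iff.2 (h.comm_z q hq)
  exact (ES.pp_mem hE hoa (nofix h hk hr hodd hcard har hyr) (q := ⟨q, hqC⟩) hq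
    (fun e => hqz (congrArg Subtype.val e))).of_sub

/-- **All elements of `C(z)`.** -/
theorem pp_cent [Finite Q] (h : Large Q z) (hs : Function.Surjective π) (hk : ∀ c, π c = 1 ↔ (c : K) ∈ Q)
    {r n : ℕ} (hr : r.Prime) (hodd : Odd r) (hcard : Nat.card Q = 2 ^ (n + 1)) (har : Ar r n)
    (hy : ∃ y : L, orderOf y = r) (hz : ∃ x : K, x * z * x⁻¹ ∈ Q ∧ x * z * x⁻¹ ≠ z) (g : CZ z)
    (hO : π g ≠ 1 → PP r (π g)) : PP r (g : K) := by
  by_cases h1 : π g = 1
  · obtain ⟨y, hy⟩ := hy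
    by_cases hgz : (g : K) = z
    · obtain ⟨x, hx, hxz⟩ := hz
      rw [hgz]
      exact (pp_in h hs hk hr hodd hcard har hy hx hxz).of_conj
    · exact pp_in h hs hk hr hodd hcard har hy ((hk g).1 h1) hgz
  · exact (pp_out h hs hk hr hodd hcard har h1 (hO h1)).of_sub

end Cfsg.Agent.H700.PwB
end

-- part: H700/PwB/Baby
section
/-!
# The Baby Monster: products of two elements of order 23 in `C(z)`, `z` of class 2B (S2465, S2453; helper700)

`C(z) = 2^(1+22).Co₂`.  If every `l ≠ 1` in `Co₂` is a product of two elements of order 23 (`P2323`), then every element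
of `B` commuting with a 2B involution is a product of two elements of order 23 (`cent_B`), in particular every
2-element (`two_B`).
-/

set_option autoImplicit false

namespace Cfsg.Agent.H700.PwB

open Cfsg Cfsg.Agent.BabyM Cfsg.Agent.BabyM.Model Cfsg.Agent.BabyU.ClosModel Cfsg.Agent.BabyU.ClosLane
open Cfsg.Agent.H903.Ore.Large Cfsg.Agent.H903.Ore.Baby

universe u

/-- every nontrivial element of `Co₂` is a product of two elements of order 23 -/
def P2323 : Prop := ∀ l : Spor.Co2, l ≠ 1 → PP 23 l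

/-- **The elements of `C(z)`**, for the model. -/
theorem cent_model (hO : P2323) (g : Inst.M.G) (hg : g * zz A = zz A * g) : PP 23 g := by
  have := A.finite_G
  obtain ⟨π, hs, hk⟩ := KFacts.Baby.Inst.quot A
  obtain ⟨e⟩ := Cfsg.Agent.Schreier.CoTwoStab.exists_equiv _ GroupInst.dt_l₀
  obtain ⟨n₀, h1, h2, -⟩ := KFacts.Baby.Inst.gen A
  refine pp_cent (KFacts.Baby.Inst.large A) hs hk (r := 23) (n := 22) (by norm_num) (by decide) card_PP'
    ar_23_22 exists_y ⟨n₀, h1, h2⟩ ⟨g, Subgroup.mem_centralizer_singleton_iff.2 hg⟩ fun h1 => ?_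
  have h2 := (hO (e (π ⟨g, Subgroup.mem_centralizer_singleton_iff.2 hg⟩)) fun h => h1 (e.injective (by
    rw [h, map_one]))).map e.symm
  rwa [e.symm_apply_apply] at h2

/-- **The 2-elements**, for the model. -/
theorem two_model (hO : P2323) {g : Inst.M.G} (hg : ∃ k : ℕ, orderOf g = 2 ^ k) : PP 23 g := by
  have := A.finite_G
  obtain ⟨u, hu⟩ := H6.ORE.exists_conj_mem (KFacts.Baby.Inst.odd_index A) hg
  exact (cent_model hO _ (Subgroup.mem_centralizer_singleton_iff.1 hu)).of_conj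

/-! ### The Baby Monster -/

section

variable {G : Type u} [Group G]

/-- **Every 2-element of the Baby Monster is a product of two elements of order 23.** -/
theorem two_B (h : Spor.IsoB G) (hO : P2323) {g : G} (hg : ∃ k : ℕ, orderOf g = 2 ^ k) : PP 23 g := by
  obtain ⟨f⟩ := KFacts.Baby.RowB.exists_iso h
  have h1 : PP 23 (f.symm g) := two_model hO (by
    obtain ⟨k, hk⟩ := hg
    exact ⟨k, by rw [MulEquiv.orderOf_eq, hk]⟩)
  have h2 := h1.map f
  rwa [f.apply_symm_apply] at h2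

/-- **Every element commuting with a 2B involution is a product of two elements of order 23.** -/
theorem cent_B (h : Spor.IsoB G) (hO : P2323) : ∃ z : G, orderOf z = 2 ∧
    Nat.card (Subgroup.centralizer ({z} : Set G)) = 2 ^ 23 * 42305421312000 ∧
    ∀ g x : G, g * (x * z * x⁻¹) = (x * z * x⁻¹) * g → PP 23 g := by
  obtain ⟨f⟩ := KFacts.Baby.RowB.exists_iso h
  have := A.finite_G
  have hz : orderOf (zz A) = 2 := orderOf_eq_prime (by rw [pow_two]; exact z_sq A) (z_ne A)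
  refine ⟨f (zz A), by rw [MulEquiv.orderOf_eq, hz], ?_, fun g x hg => ?_⟩
  · have h1 : (Subgroup.centralizer ({zz A} : Set Inst.M.G)).map f.toMonoidHom =
        Subgroup.centralizer ({f (zz A)} : Set G) := by
      ext y
      rw [Subgroup.mem_map, Subgroup.mem_centralizer_singleton_iff]
      constructor
      · rintro ⟨x, hx, rfl⟩
        rw [Subgroup.mem_centralizer_singleton_iff] at hx
        show f x * f (zz A) = f (zz A) * f x
        rw [← map_mul, hx, map_mul]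
      · intro hy
        refine ⟨f.symm y, Subgroup.mem_centralizer_singleton_iff.2 (f.injective ?_), f.apply_symm_apply y⟩
        rw [map_mul, map_mul, f.apply_symm_apply, hy]
    rw [← h1, ← Nat.card_congr ((Subgroup.centralizer ({zz A} : Set Inst.M.G)).equivMapOfInjective _ f.injective).toEquiv,
      Nat.card_congr (KFacts.Baby.Inst.eC A).toEquiv, A.grp.card_C]
  · refine PP.of_conj (x := x⁻¹) ?_
    have hg' : (x⁻¹ * g * x⁻¹⁻¹) * f (zz A) = f (zz A) * (x⁻¹ * g * x⁻¹⁻¹) := by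
      calc (x⁻¹ * g * x⁻¹⁻¹) * f (zz A) = x⁻¹ * (g * (x * f (zz A) * x⁻¹)) * x := by group
        _ = x⁻¹ * ((x * f (zz A) * x⁻¹) * g) * x := by rw [hg]
        _ = f (zz A) * (x⁻¹ * g * x⁻¹⁻¹) := by group
    obtain ⟨k, hk⟩ : ∃ k, k = x⁻¹ * g * x⁻¹⁻¹ := ⟨_, rfl⟩
    rw [← hk] at hg' ⊢
    have h1 : PP 23 (f.symm k) := cent_model hO _ (f.injective (by
      rw [map_mul, map_mul, f.apply_symm_apply, hg']))
    have h2 := h1.map f
    rwa [f.apply_symm_apply] at h2

end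

end Cfsg.Agent.H700.PwB
end
end

-- part: H938/Pw/Avg
section
prune_inst 0x20204400700000080000208003002024040005900020000028000440010a03008040014006000000000882000000002000000080400000000a000000000000000008120400000000000000003084000000000000000000000000000000010004000000000
set_option linter.all false
open scoped Cfsg.Agent.FastGrp

/-!
# The averaged class product sieve

`P`, `Q` Sylow subgroups of prime order (`P = Q` allowed), `W`, `W'` their columns (`H653/Sieve`: `e W χ = ∑_{x ∈ P, x ≠ 1} χ(x)`,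
`W 1 = t`, `e t = p - 1`). The structure constants of the pairs `(x, y)`, `x ∈ P`, `y ∈ Q`, `x, y ≠ 1`, are summed up:

* `exists_prd_of_ne_zero`, `exists_prd_of_lt` :
  `(∑_{χ ≠ 1} (W χ W' χ / χ(1))²) (|C(g)| - 1) < (t t')²` gives `Prd x y g` for some `x ∈ P`, `y ∈ Q`, `x, y ≠ 1`;
* `avg` : the same with a certificate (linear programming bound for the sum, the columns of several primes may be used,
  each with a centralizer of any order `p k`) : `|C(g)| ≤ c` gives `g = x * y`, `x` of order `p`, `y` of order `p'`.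
-/

set_option autoImplicit false
set_option linter.unusedSectionVars false

open Cfsg Subgroup
open scoped ComplexConjugate

namespace Cfsg.Agent.H938.Pw.Avg

open Cfsg.Agent.Characters.Core
open Cfsg.Agent.H653.Sieve Cfsg.Agent.H653.Sys
open Cfsg.Agent.H65.Ore

universe u

variable {G : Type u} [Group G] [Finite G] [Fintype (IrrCharacter G)]

/-- Sum of structure constants. -/
theorem exists_prd_of_ne_zero {H K : Subgroup G} {g : G}
    (h : ∑ χ : IrrCharacter G, csum H (χ : G → ℂ) * csum K (χ : G → ℂ) * conj ((χ : G → ℂ) g) / (χ : G → ℂ) 1 ≠ 0) :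
    ∃ x ∈ H, x ≠ 1 ∧ ∃ y ∈ K, y ≠ 1 ∧ Prd x y g := by
  classical
  by_contra hno
  push Not at hno
  apply h
  have := Fintype.ofFinite H
  have := Fintype.ofFinite K
  have h1 : ∀ χ : IrrCharacter G, csum H (χ : G → ℂ) * csum K (χ : G → ℂ) * conj ((χ : G → ℂ) g) / (χ : G → ℂ) 1 =
      ∑ x ∈ (Finset.univ : Finset H).erase 1, ∑ y ∈ (Finset.univ : Finset K).erase 1,
        (χ : G → ℂ) x * (χ : G → ℂ) y * conj ((χ : G → ℂ) g) / (χ : G → ℂ) 1 := by
    intro χ
    rw [csum_eq_erase, csum_eq_erase, Finset.sum_mul_sum, Finset.sum_mul, Finset.sum_div]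
    refine Finset.sum_congr rfl fun x _ => ?_
    rw [Finset.sum_mul, Finset.sum_div]
  rw [Finset.sum_congr rfl fun χ _ => h1 χ, Finset.sum_comm, Finset.sum_eq_zero]
  intro x hx
  rw [Finset.sum_comm, Finset.sum_eq_zero]
  intro y hy
  by_contra h2
  exact hno x x.2 (fun e => (Finset.mem_erase.1 hx).1 (Subtype.ext e)) y y.2
    (fun e => (Finset.mem_erase.1 hy).1 (Subtype.ext e)) (prd_of_ne_zero h2)

theorem deg_pos (χ : IrrCharacter G) : 0 < H653.Sieve.deg χ :=
  Nat.pos_of_ne_zero (Blocks.Knorr.charDegree_ne_zero χ.2)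

theorem norm_apply_one (χ : IrrCharacter G) : ‖(χ : G → ℂ) 1‖ = (H653.Sieve.deg χ : ℝ) := by
  rw [deg_cast, Complex.norm_natCast]

/-- **The averaged sieve.** -/
theorem exists_prd_of_lt [DecidableEq (IrrCharacter G)] {H K : Subgroup G} {e e' : ℕ} {W W' : IrrCharacter G → ℤ}
    (hW : IsCol H e W) (hW' : IsCol K e' W') (he : e ≠ 0) (he' : e' ≠ 0) {g : G}
    (h : (∑ χ ∈ Finset.univ.erase (one1 G), (((W χ * W' χ : ℤ) : ℝ) / (H653.Sieve.deg χ : ℝ)) ^ 2) *
      ((Nat.card (centralizer ({g} : Set G)) : ℝ) - 1) < ((W (one1 G) * W' (one1 G) : ℤ) : ℝ) ^ 2) :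
    ∃ x ∈ H, x ≠ 1 ∧ ∃ y ∈ K, y ≠ 1 ∧ Prd x y g := by
  apply exists_prd_of_ne_zero
  intro h0
  have hc : ((e : ℂ) * e') ≠ 0 := by
    have h1 : (e : ℂ) ≠ 0 := by exact_mod_cast he
    have h2 : (e' : ℂ) ≠ 0 := by exact_mod_cast he'
    exact mul_ne_zero h1 h2
  have h1 : ∑ χ : IrrCharacter G, ((W χ * W' χ : ℤ) : ℂ) * conj ((χ : G → ℂ) g) / (χ : G → ℂ) 1 = 0 := by
    have h2 : ((e : ℂ) * e') * ∑ χ : IrrCharacter G, ((W χ * W' χ : ℤ) : ℂ) * conj ((χ : G → ℂ) g) / (χ : G → ℂ) 1 = 0 := by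
      rw [← h0, Finset.mul_sum]
      refine Finset.sum_congr rfl fun χ _ => ?_
      rw [← hW χ, ← hW' χ]
      push_cast
      ring
    exact (mul_eq_zero.1 h2).resolve_left hc
  rw [← Finset.add_sum_erase Finset.univ _ (Finset.mem_univ (one1 G))] at h1
  simp only [one1_apply, map_one, mul_one, div_one] at h1
  have h2 : ∑ χ ∈ Finset.univ.erase (one1 G), ((W χ * W' χ : ℤ) : ℂ) * conj ((χ : G → ℂ) g) / (χ : G → ℂ) 1 =
      -((W (one1 G) * W' (one1 G) : ℤ) : ℂ) := by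
    linear_combination h1
  have h3 := norm_sum_le (Finset.univ.erase (one1 G))
    (fun χ : IrrCharacter G => ((W χ * W' χ : ℤ) : ℂ) * conj ((χ : G → ℂ) g) / (χ : G → ℂ) 1)
  rw [h2, norm_neg, Complex.norm_intCast] at h3
  have h4 : ∀ χ : IrrCharacter G, ‖((W χ * W' χ : ℤ) : ℂ) * conj ((χ : G → ℂ) g) / (χ : G → ℂ) 1‖ =
      |((W χ * W' χ : ℤ) : ℝ)| / (H653.Sieve.deg χ : ℝ) * ‖(χ : G → ℂ) g‖ := by
    intro χ
    rw [norm_div, norm_mul, Complex.norm_conj, Complex.norm_intCast, norm_apply_one]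
    ring
  rw [Finset.sum_congr rfl fun χ _ => h4 χ] at h3
  have h5 := Finset.sum_mul_sq_le_sq_mul_sq (Finset.univ.erase (one1 G))
    (fun χ : IrrCharacter G => |((W χ * W' χ : ℤ) : ℝ)| / (H653.Sieve.deg χ : ℝ)) (fun χ : IrrCharacter G => ‖(χ : G → ℂ) g‖)
  rw [sum_erase_sq] at h5
  have h6 : ∀ χ : IrrCharacter G, (|((W χ * W' χ : ℤ) : ℝ)| / (H653.Sieve.deg χ : ℝ)) ^ 2 =
      (((W χ * W' χ : ℤ) : ℝ) / (H653.Sieve.deg χ : ℝ)) ^ 2 := by
    intro χ
    rw [div_pow, div_pow, sq_abs]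
  rw [Finset.sum_congr rfl fun χ _ => h6 χ] at h5
  have h7 : ((W (one1 G) * W' (one1 G) : ℤ) : ℝ) ^ 2 ≤
      (∑ χ ∈ Finset.univ.erase (one1 G), |((W χ * W' χ : ℤ) : ℝ)| / (H653.Sieve.deg χ : ℝ) * ‖(χ : G → ℂ) g‖) ^ 2 := by
    rw [← sq_abs]
    exact pow_le_pow_left₀ (abs_nonneg _) h3 2
  linarith only [h, h5, h7]

/-! ### The columns -/

/-- The column of the prime `D.p`. -/
def Good (D : PD) (W : IrrCharacter G → ℤ) : Prop :=
  D.p.Prime ∧ D.e ≠ 0 ∧ (∃ P : Subgroup G, Nat.card P = D.p ∧ IsCol P D.e W) ∧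
    (∀ χ : IrrCharacter G, (χ : G → ℂ) = 1 → W χ = D.t) ∧ ∀ χ : IrrCharacter G, (H653.Sieve.deg χ % D.p, W χ) ∈ D.wl

theorem exists_sys [IsSimpleGroup G] (hG : ¬ IsMulCommutative G) {N : ℕ} (hN : Nat.card G = N) :
    ∀ {Ds : List PD}, (Ds.all (PD.ok N)) = true → (∀ D ∈ Ds, D.Cent G) →
    ∃ Ws : List (IrrCharacter G → ℤ), SysOK (fun g : G => orderOf g) (Ds.map PD.fam) Ws ∧ List.Forall₂ Good Ds Ws
  | [], _, _ => ⟨[], .nil, .nil⟩
  | D :: Ds, h, hx => by
    rw [List.all_cons, Bool.and_eq_true] at h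
    obtain ⟨Ws, hWs, hg⟩ := exists_sys hG hN h.2 (fun D hD => hx D (List.mem_cons_of_mem _ hD))
    obtain ⟨h1, h2⟩ := h
    simp only [PD.ok, Bool.and_eq_true, decide_eq_true_eq] at h1
    obtain ⟨⟨hp, hn⟩, hs⟩ := h1
    have := Fact.mk hp
    obtain ⟨x, hx1, hx2⟩ := hx D List.mem_cons_self
    obtain ⟨P, W, hP, he, hcol, hok⟩ := H653.Sieve.exists_col hG hN hx1 hx2 D.e D.t D.wl D.c D.b hn
    have hfam : FamOK (fun g : G => orderOf g) D.fam [W] := by
      refine ⟨.cons ⟨supp_of_isCol hP he hcol, ?_, hok.cnt, hok.one⟩ .nil, fun χ => mem_pick (hok.mem χ)⟩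
      rw [hs]
      exact hok.sq
    exact ⟨W :: Ws, .cons hfam hWs, .cons ⟨hp, he, ⟨P, hP, hcol⟩, hok.one, hok.mem⟩ hg⟩

theorem Good.order {D : PD} {P : Subgroup G} (hp : D.p.Prime) (hP : Nat.card P = D.p) {x : G} (hx : x ∈ P)
    (hx1 : x ≠ 1) : orderOf x = D.p := by
  have h1 : orderOf (⟨x, hx⟩ : P) ∣ D.p := hP ▸ _root_.orderOf_dvd_natCard _
  rw [Subgroup.orderOf_mk] at h1
  rcases (Nat.dvd_prime hp).1 h1 with h | h
  · exact absurd (orderOf_eq_one_iff.1 h) hx1
  · exact h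

/-! ### The certificate -/

/-- all the tuples of values (without the residues) -/
def allT : List PD → (List ℤ → Bool) → Bool
  | [], k => k []
  | D :: Ds, k => D.wl.all fun u => allT Ds fun v => k (u.2 :: v)

theorem allT_spec (χ : IrrCharacter G) : ∀ {Ds : List PD} {Ws : List (IrrCharacter G → ℤ)}, List.Forall₂ Good Ds Ws →
    ∀ {k : List ℤ → Bool}, allT Ds k = true → k (Ws.map fun W => W χ) = true
  | [], _, .nil, k, hk => by simpa [allT] using hk
  | D :: Ds, W :: Ws, .cons h hs, k, hk => by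
    rw [allT, List.all_eq_true] at hk
    exact allT_spec χ hs (hk _ (h.2.2.2.2 χ))

/-- the inequality for one character, `d < √B` -/
def ineqD (Dn a : ℤ) (cs : List Cf) (ex : List Ex) (i j : ℕ) (d : ℕ) (ws : List ℤ) : Bool :=
  decide (Dn * ((ws.getD i 0 * ws.getD j 0) * (ws.getD i 0 * ws.getD j 0)) ≤
    (a * d * d + quad d cs ws + _root_.Cfsg.Agent.H653.Sys.exSum d ex) * (d * d))

def okA (Dn a : ℤ) (cs : List Cf) (ex : List Ex) (Ds : List PD) (A : ℕ → Bool) (i j : ℕ) (d : ℕ) : Bool :=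
  bif Nat.beq d 1 then true else bif A d then allV (Ds.map PD.fam) d (ineqD Dn a cs ex i j d) else true

/-- the inequality for `B ≤ d²` : no `d` on the right hand side -/
def bigOK (N B : ℕ) (Dn a : ℤ) (cs : List Cf) (ex : List Ex) (Ds : List PD) (i j : ℕ) : Bool :=
  Nat.ble N B || (decide (0 ≤ a) && ex.isEmpty && (cs.all fun c => decide (c.g = 0)) &&
    allT Ds fun ws => decide (Dn * ((ws.getD i 0 * ws.getD j 0) * (ws.getD i 0 * ws.getD j 0)) ≤ quad 0 cs ws * B) &&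
      decide (0 ≤ quad 0 cs ws))

/-- the bound for the sum -/
def bnd (N : ℕ) (a : ℤ) (cs : List Cf) (ex : List Ex) (Ds : List PD) : ℤ :=
  a * N + _root_.Cfsg.Agent.H653.Sys.tot cs (colsOf (Ds.map PD.fam)) + _root_.Cfsg.Agent.H653.Sys.exTot ex - (a + quad 1 cs ((colsOf (Ds.map PD.fam)).map Col.w) + exSum 1 ex)

/-- **The check.** -/
def chk (N : ℕ) (L : List (ℕ × ℕ)) (Ds : List PD) (Cs : List Cond) (A : ℕ → Bool) (B : ℕ) (Dn a : ℤ) (cs : List Cf)
    (ms : List ℤ) (i j c : ℕ) : Bool :=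
  sgOK Cs ms && _root_.Cfsg.Agent.H653.Sys.flagOK cs (colsOf (Ds.map PD.fam)) && decide (0 < Dn) &&
    decide (bnd N a cs (exOf Cs ms) Ds * (c - 1) < Dn * (((Ds.map PD.t).getD i 0 * (Ds.map PD.t).getD j 0 : ℕ) ^ 2 : ℕ)) &&
    bigOK N B Dn a cs (exOf Cs ms) Ds i j && allDiv B (okA Dn a cs (exOf Cs ms) Ds A i j) L 1

theorem quad_eq {d : ℕ} : ∀ {cs : List Cf} {ws : List ℤ}, (cs.all fun c => decide (c.g = 0)) = true →
    quad d cs ws = quad 0 cs ws
  | [], ws, _ => by cases ws <;> simp [quad]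
  | c :: cs, [], _ => by simp [quad]
  | c :: cs, w :: ws, h => by
    rw [List.all_cons, Bool.and_eq_true, decide_eq_true_eq] at h
    rw [quad, quad, quad_eq h.2, h.1]
    simp

theorem map_getD (χ : IrrCharacter G) (Ws : List (IrrCharacter G → ℤ)) (i : ℕ) :
    (Ws.map fun W => W χ).getD i 0 = Ws.getD i 0 χ := by
  induction Ws generalizing i with
  | nil => simp
  | cons W Ws ih =>
    cases i with
    | zero => simp
    | succ i => simpa only [_root_.List.map_cons, _root_.List.getD_eq_getElem?_getD, _root_.List.getElem?_cons_succ, _root_.List.getElem?_map] using ih i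

/-- the bound of the sum -/
theorem sum_le [IsSimpleGroup G] {N : ℕ} {L : List (ℕ × ℕ)} (hN : Nat.card G = N) (hnp : ¬ N.Prime)
    (pr : (L.all fun pa => Nat.Prime pa.1) = true) (fac : facProd L = N) [DecidableEq (IrrCharacter G)]
    {Ds : List PD} {Ws : List (IrrCharacter G → ℤ)} (hs : SysOK (fun g : G => orderOf g) (Ds.map PD.fam) Ws)
    (hg : List.Forall₂ Good Ds Ws) {A : ℕ → Bool}
    (hA : ∀ χ : IrrCharacter G, (χ : G → ℂ) ≠ 1 → A (H653.Sieve.deg χ) = true) {B : ℕ} {Dn a : ℤ} {cs : List Cf}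
    {ex : List Ex} (hex : ∀ e ∈ ex, e.Holds G) {i j : ℕ} (hflag : _root_.Cfsg.Agent.H653.Sys.flagOK cs (colsOf (Ds.map PD.fam)) = true)
    (hbig : bigOK N B Dn a cs ex Ds i j = true) (hall : allDiv B (okA Dn a cs ex Ds A i j) L 1 = true) :
    (Dn : ℝ) * ∑ χ ∈ Finset.univ.erase (one1 G), (((Ws.getD i 0 χ * Ws.getD j 0 χ : ℤ) : ℝ) / (H653.Sieve.deg χ : ℝ)) ^ 2 ≤
      (bnd N a cs ex Ds : ℝ) := by
  have := Fintype.ofFinite G
  have hsq : ∑ χ : IrrCharacter G, (H653.Sieve.deg χ : ℤ) * H653.Sieve.deg χ = N := by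
    have h3 := SmallSimple.DegreeData.sum_sq (G := G)
    rw [← hN]
    rw [← h3]
    push_cast
    refine Finset.sum_congr rfl fun χ _ => ?_
    unfold H653.Sieve.deg
    ring
  set F : IrrCharacter G → ℤ := fun χ =>
    a * H653.Sieve.deg χ * H653.Sieve.deg χ + quad (H653.Sieve.deg χ) cs (Ws.map fun W => W χ) + _root_.Cfsg.Agent.H653.Sys.exSum (H653.Sieve.deg χ) ex with hF
  have hFs : ∑ χ : IrrCharacter G, F χ ≤ a * N + _root_.Cfsg.Agent.H653.Sys.tot cs (colsOf (Ds.map PD.fam)) + _root_.Cfsg.Agent.H653.Sys.exTot ex := by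
    rw [hF, Finset.sum_add_distrib, Finset.sum_add_distrib, _root_.Cfsg.Agent.H653.Sys.sum_quad orderOf_conj orderOf_one hs.cols hflag]
    have h3 : ∑ χ : IrrCharacter G, a * (H653.Sieve.deg χ : ℤ) * H653.Sieve.deg χ = a * N := by
      rw [← hsq, Finset.mul_sum]
      exact Finset.sum_congr rfl fun χ _ => by ring
    rw [h3]
    have := _root_.Cfsg.Agent.H653.Sys.exSum_le hex
    linarith only [this]
  have hd1 : H653.Sieve.deg (one1 G) = 1 := by
    unfold H653.Sieve.deg charDegree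
    rw [one1_apply]
    simp
  have hone : ((one1 G : IrrCharacter G) : G → ℂ) = 1 := rfl
  have hF1 : F (one1 G) = a + quad 1 cs ((colsOf (Ds.map PD.fam)).map Col.w) + _root_.Cfsg.Agent.H653.Sys.exSum 1 ex := by
    have h3 : (Ws.map fun W => W (one1 G)) = (colsOf (Ds.map PD.fam)).map Col.w := by
      have h4 := hs.cols
      revert h4
      generalize colsOf (Ds.map PD.fam) = ps
      intro h4
      clear * - h4 hone
      induction h4 with
      | nil => rfl
      | cons h1 _ ih => rw [List.map_cons, List.map_cons, ih, h1.one (one1 G) hone]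
    rw [hF]
    simp only []
    rw [h3, hd1]
    push_cast
    ring
  have hFe : ∑ χ ∈ Finset.univ.erase (one1 G), F χ ≤ bnd N a cs ex Ds := by
    have h3 := Finset.add_sum_erase Finset.univ F (Finset.mem_univ (one1 G))
    rw [hF1] at h3
    rw [bnd]
    linarith only [hFs, h3]
  -- the inequality for one character
  have key : ∀ χ ∈ Finset.univ.erase (one1 G), (Dn : ℝ) * (((Ws.getD i 0 χ * Ws.getD j 0 χ : ℤ) : ℝ) / (H653.Sieve.deg χ : ℝ)) ^ 2 ≤
      (F χ : ℝ) := by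
    intro χ hχ
    have hχ1 : (χ : G → ℂ) ≠ 1 := coe_ne_one (Finset.ne_of_mem_erase hχ)
    have hdpos : (0 : ℝ) < (H653.Sieve.deg χ : ℝ) := by exact_mod_cast deg_pos χ
    have hdvd : H653.Sieve.deg χ ∣ N := by
      rw [← hN]
      exact Blocks.Knorr.charDegree_dvd χ.2
    have hlt : H653.Sieve.deg χ * H653.Sieve.deg χ < N := by
      have h3 : (H653.Sieve.deg χ : ℤ) * H653.Sieve.deg χ + (H653.Sieve.deg (one1 G) : ℤ) * H653.Sieve.deg (one1 G) ≤ N := by
        rw [← hsq]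
        have h4 : ∑ χ' ∈ ({χ, one1 G} : Finset (IrrCharacter G)), (H653.Sieve.deg χ' : ℤ) * H653.Sieve.deg χ' ≤
            ∑ χ' : IrrCharacter G, (H653.Sieve.deg χ' : ℤ) * H653.Sieve.deg χ' :=
          Finset.sum_le_sum_of_subset_of_nonneg (Finset.subset_univ _) fun χ' _ _ => by (clear * -; positivity)
        rwa [Finset.sum_pair (Finset.ne_of_mem_erase hχ)] at h4
      rw [hd1] at h3
      have : ((H653.Sieve.deg χ * H653.Sieve.deg χ : ℕ) : ℤ) < N := by push_cast at h3 ⊢; linarith only [h3]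
      exact_mod_cast this
    have hgoal : Dn * ((Ws.getD i 0 χ * Ws.getD j 0 χ) * (Ws.getD i 0 χ * Ws.getD j 0 χ)) ≤
        F χ * (H653.Sieve.deg χ * H653.Sieve.deg χ) := by
      by_cases hB : H653.Sieve.deg χ * H653.Sieve.deg χ < B
      · have hpr : ∀ pa ∈ L, pa.1.Prime := by
          intro pa hpa
          have := List.all_eq_true.1 pr pa hpa
          simpa using this
        have h3 := allDiv_spec hpr hall (H653.Sieve.deg χ) (by rw [fac]; exact hdvd) (by rwa [one_mul])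
        rw [one_mul] at h3
        have h5 : Nat.beq (H653.Sieve.deg χ) 1 = false := by
          rw [Bool.eq_false_iff]
          intro h6
          exact hχ1 (H653.Sieve.one_of_deg (by rwa [hN]) χ (Nat.eq_of_beq_eq_true h6))
        rw [okA, h5, cond_false, hA χ hχ1, cond_true] at h3
        have h8 := allV_spec hs χ h3
        rw [ineqD, decide_eq_true_eq, map_getD, map_getD] at h8
        exact h8
      · rw [bigOK, Bool.or_eq_true] at hbig
        rcases hbig with h3 | h3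
        · exact absurd (Nat.le_of_ble_eq_true h3) (by omega)
        · simp only [Bool.and_eq_true, decide_eq_true_eq, List.isEmpty_iff] at h3
          obtain ⟨⟨⟨ha, hex0⟩, hg0⟩, h4⟩ := h3
          have h5 := allT_spec χ hg h4
          simp only [Bool.and_eq_true, decide_eq_true_eq, map_getD] at h5
          obtain ⟨h5, h6⟩ := h5
          have h7 : F χ = a * H653.Sieve.deg χ * H653.Sieve.deg χ + quad 0 cs (Ws.map fun W => W χ) := by
            rw [hF]
            simp only []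
            rw [quad_eq hg0, hex0]
            simp [H653.Sys.exSum]
          have h8 : (B : ℤ) ≤ (H653.Sieve.deg χ : ℤ) * H653.Sieve.deg χ := by exact_mod_cast not_lt.1 hB
          rw [h7]
          have h9 : 0 ≤ a * (H653.Sieve.deg χ : ℤ) * H653.Sieve.deg χ * ((H653.Sieve.deg χ : ℤ) * H653.Sieve.deg χ) := by (clear * - ha; positivity)
          linarith only [h5, h9, mul_le_mul_of_nonneg_left h8 h6]
    rw [div_pow, ← mul_div_assoc, div_le_iff₀ (by (clear * - hdpos; positivity))]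
    have h3 : ((Dn * ((Ws.getD i 0 χ * Ws.getD j 0 χ) * (Ws.getD i 0 χ * Ws.getD j 0 χ)) : ℤ) : ℝ) ≤
        ((F χ * (H653.Sieve.deg χ * H653.Sieve.deg χ) : ℤ) : ℝ) := by exact_mod_cast hgoal
    push_cast at h3 ⊢
    linarith only [h3]
  rw [Finset.mul_sum]
  refine (Finset.sum_le_sum key).trans ?_
  exact_mod_cast hFe

/-- **The averaged sieve with a certificate**: `i`, `j` are the positions of the two primes in the list `Ds` (`i = j` allowed). -/
theorem avg [IsSimpleGroup G] {N : ℕ} {L : List (ℕ × ℕ)} (hN : Nat.card G = N) (hnp : ¬ N.Prime)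
    (pr : (L.all fun pa => Nat.Prime pa.1) = true) (fac : facProd L = N) {Ds : List PD}
    (hD : (Ds.all (PD.ok N)) = true) (hx : ∀ D ∈ Ds, D.Cent G) {Cs : List Cond} (hC : ∀ c ∈ Cs, c.Holds G)
    {A : ℕ → Bool} (hA : ∀ χ : IrrCharacter G, (χ : G → ℂ) ≠ 1 → A (charDegree (χ : G → ℂ)) = true) {p q : ℕ}
    (i j : ℕ) (hi : (Ds.map PD.p)[i]? = some p) (hj : (Ds.map PD.p)[j]? = some q) (B : ℕ) (Dn a : ℤ) (cs : List Cf)
    (ms : List ℤ) (c : ℕ) (h : chk N L Ds Cs A B Dn a cs ms i j c = true) {g : G}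
    (hg : Nat.card (centralizer ({g} : Set G)) ≤ c) :
    ∃ x y : G, orderOf x = p ∧ orderOf y = q ∧ g = x * y := by
  classical
  have hG : ¬ IsMulCommutative G := by
    intro h
    let _ : CommGroup G := { (inferInstance : Group G) with mul_comm := fun a b => h.is_comm.comm a b }
    have h1 : (Nat.card G).Prime := IsSimpleGroup.prime_card
    rw [hN] at h1
    exact hnp h1
  simp only [chk, Bool.and_eq_true, decide_eq_true_eq] at h
  obtain ⟨⟨⟨⟨⟨h1, h2⟩, h3⟩, h4⟩, h5⟩, h6⟩ := h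
  obtain ⟨Ws, hs, hgood⟩ := exists_sys hG hN hD hx
  have hsum := sum_le hN hnp pr fac hs hgood hA (exOf_holds hC h1) h2 h5 h6
  have hcol : ∀ {k r : ℕ}, (Ds.map PD.p)[k]? = some r → ∃ D : PD, D.p = r ∧ (Ds.map PD.t).getD k 0 = D.t ∧
      Good D (Ws.getD k 0) := by
    intro k r hk
    clear * - hk hgood
    induction hgood generalizing k with
    | nil => simp at hk
    | @cons D W Ds Ws h1 _ ih =>
      cases k with
      | zero =>
        simp only [List.map_cons, List.getElem?_cons_zero, Option.some.injEq] at hk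
        exact ⟨D, hk, by simp, by simpa using h1⟩
      | succ k =>
        simp only [List.map_cons, List.getElem?_cons_succ] at hk
        obtain ⟨D', h2, h3, h4⟩ := ih hk
        exact ⟨D', h2, by simpa only [_root_.List.map_cons, _root_.List.getD_eq_getElem?_getD, _root_.List.getElem?_cons_succ, _root_.List.getElem?_map] using h3, by simpa only [_root_.List.getD_eq_getElem?_getD, _root_.List.getElem?_cons_succ] using h4⟩
  obtain ⟨D, rfl, hDt, hDp, hDe, ⟨P, hP, hPc⟩, hD1, -⟩ := hcol hi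
  obtain ⟨D', rfl, hDt', hDp', hDe', ⟨Q, hQ, hQc⟩, hD1', -⟩ := hcol hj
  have hc1 : 1 ≤ Nat.card (centralizer ({g} : Set G)) := Nat.card_pos
  obtain ⟨x, hx, hx1, y, hy, hy1, b, b', hb⟩ := exists_prd_of_lt (g := g) hPc hQc hDe hDe' (by
    rw [hD1 (one1 G) rfl, hD1' (one1 G) rfl]
    have hDn : (0 : ℝ) < (Dn : ℝ) := by exact_mod_cast h3
    rw [hDt, hDt'] at h4
    have h7 : ((bnd N a cs (exOf Cs ms) Ds * (c - 1) : ℤ) : ℝ) < ((Dn * ((D.t * D'.t : ℕ) ^ 2 : ℕ) : ℤ) : ℝ) := by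
      exact_mod_cast h4
    push_cast at h7
    have h8 : (Nat.card (centralizer ({g} : Set G)) : ℝ) ≤ c := by exact_mod_cast hg
    have h9 : (1 : ℝ) ≤ (Nat.card (centralizer ({g} : Set G)) : ℝ) := by exact_mod_cast hc1
    set s := ∑ χ ∈ Finset.univ.erase (one1 G), (((Ws.getD i 0 χ * Ws.getD j 0 χ : ℤ) : ℝ) / (H653.Sieve.deg χ : ℝ)) ^ 2 with hs'
    have h10 : 0 ≤ s := Finset.sum_nonneg fun _ _ => by (clear * -; positivity)
    have h11 : (Dn : ℝ) * (s * ((Nat.card (centralizer ({g} : Set G)) : ℝ) - 1)) ≤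
        (bnd N a cs (exOf Cs ms) Ds : ℝ) * ((c : ℝ) - 1) := by
      calc _ = ((Dn : ℝ) * s) * ((Nat.card (centralizer ({g} : Set G)) : ℝ) - 1) := by ring
        _ ≤ ((Dn : ℝ) * s) * ((c : ℝ) - 1) := by
            apply mul_le_mul_of_nonneg_left (by linarith only [h8]) (by (clear * - h3; positivity))
        _ ≤ _ := by
            apply mul_le_mul_of_nonneg_right hsum (by linarith only [h8, h9])
    have h12 : (Dn : ℝ) * (s * ((Nat.card (centralizer ({g} : Set G)) : ℝ) - 1)) <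
        (Dn : ℝ) * (((D.t * D'.t : ℤ) : ℝ) ^ 2) := by
      push_cast
      exact lt_of_le_of_lt h11 h7
    exact lt_of_mul_lt_mul_left h12 hDn.le)
  refine ⟨b * x * b⁻¹, b' * y * b'⁻¹, ?_, ?_, hb⟩
  · rw [orderOf_conj (b * x * b⁻¹) x (isConj_iff.2 ⟨b⁻¹, by group⟩)]
    exact Good.order hDp hP hx hx1
  · rw [orderOf_conj (b' * y * b'⁻¹) y (isConj_iff.2 ⟨b'⁻¹, by group⟩)]
    exact Good.order hDp' hQ hy hy1

end Cfsg.Agent.H938.Pw.Avg

private theorem dce_256cceaa2c18 : _root_.True := by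
  try have : _root_.True := by simp only [_root_.Cfsg.Agent.H938.Pw.Avg.allT.eq_1]
  try have : _root_.True := by simp only [_root_.Cfsg.Agent.H938.Pw.Avg.allT.eq_def]
  try have : _root_.True := by simp only [_root_.Cfsg.Agent.H938.Pw.Avg.allT.eq_2]
  try have : _root_.True := by simp only [_root_.Cfsg.Agent.H938.Pw.Avg.chk.eq_1]
  try have : _root_.True := by simp only [_root_.Cfsg.Agent.H938.Pw.Avg.Good.congr_simp]
  try have : _root_.True := by simp only [_root_.Cfsg.Agent.H653.Sieve.csum.congr_simp]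
  try have : _root_.True := by simp only [_root_.Cfsg.Agent.H938.Pw.Avg.bnd.eq_1]
  try have : _root_.True := by simp only [_root_.Cfsg.Agent.H938.Pw.Avg.okA.eq_1]
  try have : _root_.True := by simp only [_root_.Cfsg.Agent.H938.Pw.Avg.bigOK.eq_1]
  try have : _root_.True := by simp only [_root_.Cfsg.Agent.H938.Pw.Avg.ineqD.eq_1]
  exact _root_.True.intro
end

-- part: H928/War/Rgd
section
set_option linter.all false
open scoped Cfsg.Agent.FastGrp

/-!
Root group data: products of two `p`-elements and of two powers (S2453, S2465).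

* `pp` : every element of a simple group with a root group datum is a product of two `p`-elements;
* `ss_reg`, `ss_nf` : every element is `x ^ e * y ^ e` for `x`, `y` conjugate to `t`, `t⁻¹`, if `t ^ e` is a regular element of `T`.
-/

set_option autoImplicit false
set_option linter.unusedSectionVars false

namespace Cfsg.Agent.H928.War.Rgd

open CoxeterSystem Cfsg.Agent.ChevalleyStructure.CoxeterGeom Cfsg.Agent.Tits.Roots Cfsg.Agent.Tits.Core
  Cfsg.Agent.Nodes.Reps
  Cfsg.Agent.Nodes.BNOf Cfsg.Agent.Nodes.StabComb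
  Cfsg.Agent.Nodes.RGDLib Cfsg.Agent.Nodes.Bruhat Cfsg.Agent.Nodes.OppDec Cfsg.Agent.Nodes.LeviDec
  Cfsg.Agent.OddHalf.NI.Mult
  Cfsg.Agent.H162.GaussDec Cfsg.Agent.H162.GaussLevi Cfsg.Agent.H162.GaussSL Cfsg.Agent.H928.Ore.Frame
open Cfsg.Agent.H130.War (PP SS)

variable {I W Y : Type*} [Fintype I] [DecidableEq I] [Group W] [Group Y] {M : CoxeterMatrix I}
  {cs : CoxeterSystem M W} {A : I → I → ℤ} {h : IsCartan M A} {p : ℕ} {T : Subgroup Y} {n : I → Y}
  {X : (I → ℤ) → Subgroup Y}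

/-- the opposite unipotent group is a `p`-group -/
theorem isPGroup_UN [Finite W] (R : RGD cs h p T n X) : IsPGroup p ↥(UN cs h X) := by
  obtain ⟨k, hk⟩ := exists_rp cs R.nsys (w0 cs)
  have h1 := cj_U R hk
  rw [← h1]
  exact R.isPGroup_Upos.map _

theorem core_trivial [Finite W] [Nonempty I] [IsSimpleGroup Y] (R : RGD cs h p T n X) {g : Y} (hg : g ≠ 1) :
    g ∉ (RGD.B cs h T X).normalCore := fun h1 => hg (by
  have h3 := Cfsg.Agent.H162.GaussMain.core_le_ker R (MonoidHom.id Y) Function.surjective_id (fun x hx => by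
    rw [MonoidHom.mem_ker] at hx
    change x = 1 at hx
    rw [hx]
    exact one_mem _) h1
  exact h3)

variable {F : I → Type*} [∀ i, Field (F i)] {s : ∀ i, Matrix.SpecialLinearGroup (Fin 2) (F i) →* Y}

/-- **Two `p`-elements.** -/
theorem pp [Finite W] [Nonempty I] [IsSimpleGroup Y] (R : RGD cs h p T n X) (hG : G1 cs h X = ⊤) (C : Coord X F s)
    (hconn : ∀ J : Set I, J.Nonempty → J ≠ Set.univ → ∃ a ∈ J, ∃ b, b ∉ J ∧ M a b ≠ 2) : PP p Y := by
  intro g
  by_cases hg : g = 1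
  · exact ⟨1, 1, by rw [hg, mul_one], ⟨0, one_pow _⟩, ⟨0, one_pow _⟩⟩
  obtain ⟨x, v, hv, u, hu, e⟩ := gauss R hG C hconn (core_trivial R hg)
  obtain ⟨a, ha⟩ := isPGroup_UN R ⟨v, hv⟩
  obtain ⟨b, hb⟩ := R.isPGroup_Upos ⟨u, hu⟩
  have ha' : v ^ p ^ a = 1 := congrArg Subtype.val ha
  have hb' : u ^ p ^ b = 1 := congrArg Subtype.val hb
  have hc : ∀ (z : Y) (m : ℕ), (x⁻¹ * z * x) ^ m = x⁻¹ * z ^ m * x := by
    intro z m
    have := conj_pow (a := x⁻¹) (b := z) (i := m)
    rwa [inv_inv] at this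
  refine ⟨x⁻¹ * v * x, x⁻¹ * u * x, ?_, ⟨a, ?_⟩, ⟨b, ?_⟩⟩
  · calc g = x⁻¹ * (x * g * x⁻¹) * x := by group
      _ = _ := by rw [e]; group
  · rw [hc, ha']; group
  · rw [hc, hb']; group

/-- **Powers of regular elements of the torus.** -/
theorem ss_reg [Finite W] [Finite Y] [Nonempty I] [IsSimpleGroup Y] (R : RGD cs h p T n X) (hG : G1 cs h X = ⊤)
    (C : Coord X F s) (hconn : ∀ J : Set I, J.Nonempty → J ≠ Set.univ → ∃ a ∈ J, ∃ b, b ∉ J ∧ M a b ≠ 2) {t : Y}
    (ht : t ∈ T) {e : ℕ} (hf : NoFix cs h X ∅ (t ^ e)) : SS p e Y := by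
  have ho : ∀ z ∈ T, (orderOf z).Coprime p := by
    intro z hz
    have h1 : orderOf z ∣ Nat.card T := by
      have := orderOf_dvd_natCard (⟨z, hz⟩ : ↥T)
      rwa [← Subgroup.orderOf_coe] at this
    exact Nat.Coprime.of_dvd_left h1 R.tcop
  intro g
  by_cases hg : g = 1
  · exact ⟨1, 1, by rw [hg, one_pow, mul_one], by rw [orderOf_one]; exact Nat.coprime_one_left p,
      by rw [orderOf_one]; exact Nat.coprime_one_left p⟩
  have hte : t ^ e ∈ T := pow_mem ht e
  have hb : ∀ v ∈ UNJ cs h X ∅, ∀ u ∈ UJ cs h X ∅, ∃ c₁ c₂, v * u = c₁ * c₂ ∧ LP cs h T X ∅ c₁ c₂ ∧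
      (c₁ = t ^ e ∧ c₂ = t⁻¹ ^ e) := by
    intro v hv u hu
    have key : ∀ x : I → ℤ, x ∉ PosJ cs h ∅ := by
      rintro x ⟨hx, -, h0⟩
      exact hx.ne_zero (funext fun i => h0 i (Set.notMem_empty i))
    have hv1 : v = 1 := by
      have h1 : UNJ cs h X ∅ ≤ ⊥ := RGD.Sup_le fun x hx => absurd hx (key _)
      exact Subgroup.mem_bot.1 (h1 hv)
    have hu1 : u = 1 := by
      have h1 : UJ cs h X ∅ ≤ ⊥ := RGD.Sup_le fun x hx => absurd hx (key _)
      exact Subgroup.mem_bot.1 (h1 hu)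
    refine ⟨t ^ e, t⁻¹ ^ e, ?_, ⟨T_le_LJ hte, ?_, ?_, ?_⟩, rfl, rfl⟩
    · rw [hv1, hu1, inv_pow, mul_inv_cancel, mul_one]
    · rw [inv_pow]
      exact T_le_LJ (inv_mem hte)
    · intro x hx h1
      exact fix_VNJ R hte hf hx h1
    · intro x hx h1
      rw [inv_pow] at h1
      exact fix_VJ R (inv_mem hte) (Cfsg.Agent.H162.GaussMain.NoFix.inv hf) hx h1
  obtain ⟨c₁, c₂, x, y, ⟨e1, e2⟩, e3⟩ := pair R hG C hconn hb (core_trivial R hg)
  refine ⟨x * t * x⁻¹, y * t⁻¹ * y⁻¹, ?_, ?_, ?_⟩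
  · rw [e3, e1, e2, conj_pow, conj_pow]
  · rw [show x * t * x⁻¹ = MulAut.conj x t from rfl, MulEquiv.orderOf_eq]
    exact ho t ht
  · rw [show y * t⁻¹ * y⁻¹ = MulAut.conj y t⁻¹ from rfl, MulEquiv.orderOf_eq]
    exact ho _ (inv_mem ht)

theorem ord_T (R : RGD cs h p T n X) {z : Y} (hz : z ∈ T) : (orderOf z).Coprime p := by
  have h1 : orderOf z ∣ Nat.card T := by
    have := orderOf_dvd_natCard (⟨z, hz⟩ : ↥T)
    rwa [← Subgroup.orderOf_coe] at this
  exact Nat.Coprime.of_dvd_left h1 R.tcop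

/-- **Powers of regular elements of the torus**, the fixed points on the unipotent groups. -/
theorem ss_nf [Finite W] [Finite Y] [Nonempty I] [IsSimpleGroup Y] (R : RGD cs h p T n X) (hG : G1 cs h X = ⊤)
    (C : Coord X F s) (hconn : ∀ J : Set I, J.Nonempty → J ≠ Set.univ → ∃ a ∈ J, ∃ b, b ∉ J ∧ M a b ≠ 2) {t : Y}
    (ht : t ∈ T) {e : ℕ} (h1 : NF (VNJ cs h X ∅) (t ^ e)) (h2 : NF (VJ cs h X ∅) (t ^ e)) : SS p e Y := by
  intro g
  by_cases hg : g = 1
  · exact ⟨1, 1, by rw [hg, one_pow, mul_one], by rw [orderOf_one]; exact Nat.coprime_one_left p,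
      by rw [orderOf_one]; exact Nat.coprime_one_left p⟩
  have hte : t ^ e ∈ T := pow_mem ht e
  have hb : ∀ v ∈ UNJ cs h X ∅, ∀ u ∈ UJ cs h X ∅, ∃ c₁ c₂, v * u = c₁ * c₂ ∧ LP cs h T X ∅ c₁ c₂ ∧
      (c₁ = t ^ e ∧ c₂ = t⁻¹ ^ e) := by
    intro v hv u hu
    have key : ∀ x : I → ℤ, x ∉ PosJ cs h ∅ := by
      rintro x ⟨hx, -, h0⟩
      exact hx.ne_zero (funext fun i => h0 i (Set.notMem_empty i))
    have hv1 : v = 1 := by
      have h1 : UNJ cs h X ∅ ≤ ⊥ := RGD.Sup_le fun x hx => absurd hx (key _)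
      exact Subgroup.mem_bot.1 (h1 hv)
    have hu1 : u = 1 := by
      have h1 : UJ cs h X ∅ ≤ ⊥ := RGD.Sup_le fun x hx => absurd hx (key _)
      exact Subgroup.mem_bot.1 (h1 hu)
    refine ⟨t ^ e, t⁻¹ ^ e, ?_, ⟨T_le_LJ hte, ?_, h1, ?_⟩, rfl, rfl⟩
    · rw [hv1, hu1, inv_pow, mul_inv_cancel, mul_one]
    · rw [inv_pow]
      exact T_le_LJ (inv_mem hte)
    · rw [inv_pow]
      exact Cfsg.Agent.H928.Ore.Fix.NF.inv h2
  obtain ⟨c₁, c₂, x, y, ⟨e1, e2⟩, e3⟩ := pair R hG C hconn hb (core_trivial R hg)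
  refine ⟨x * t * x⁻¹, y * t⁻¹ * y⁻¹, ?_, ?_, ?_⟩
  · rw [e3, e1, e2, conj_pow, conj_pow]
  · rw [show x * t * x⁻¹ = MulAut.conj x t from rfl, MulEquiv.orderOf_eq]
    exact ord_T R ht
  · rw [show y * t⁻¹ * y⁻¹ = MulAut.conj y t⁻¹ from rfl, MulEquiv.orderOf_eq]
    exact ord_T R (inv_mem ht)

end Cfsg.Agent.H928.War.Rgd
end
end
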